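import Cfsg.Agent.Lib.KnownA.OneSevenFiveData.I.Data

set_option autoImplicit false
set_option maxRecDepth 100000

set_option Elab.async false

namespace CfsgLib.KnownA.OneSevenFive.I

open CfsgLib.InvChar.Coset

theorem chk_facts135 : cert.chkBlocks 15 135 = true := by decide +kernel

theorem chk_facts150 : cert.chkBlocks 15 150 = true := by decide +kernel

theorem chk_facts165 : cert.chkBlocks 7 165 = true := by decide +kernel

end CfsgLib.KnownA.OneSevenFive.I
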