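import Cfsg.Agent.Lib.KnownA.OneSevenFiveData.I.F0
import Cfsg.Agent.Lib.KnownA.OneSevenFiveData.I.F1
import Cfsg.Agent.Lib.KnownA.OneSevenFiveData.I.F2
import Cfsg.Agent.Lib.KnownA.OneSevenFiveData.I.F3

set_option autoImplicit false
set_option maxRecDepth 100000

namespace CfsgLib.KnownA.OneSevenFive.I

open CfsgLib.InvChar.Coset

theorem chk_rows : table.chkRows cert live fin 1463 0 = true := by decide +kernel

theorem facts_ok : ∀ j < 172, cert.chkRun 128 (j * 128) (cert.just.get j) = true := by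
  intro j hj
  rcases Nat.lt_or_ge j 15 with h | h
  · obtain ⟨i, rfl⟩ : ∃ i, j = 0 + i := ⟨j - 0, by omega⟩
    exact chkBlocks_get (D := cert) 15 0 chk_facts0 i (by omega)
  rcases Nat.lt_or_ge j 30 with h | h
  · obtain ⟨i, rfl⟩ : ∃ i, j = 15 + i := ⟨j - 15, by omega⟩
    exact chkBlocks_get (D := cert) 15 15 chk_facts15 i (by omega)
  rcases Nat.lt_or_ge j 45 with h | h
  · obtain ⟨i, rfl⟩ : ∃ i, j = 30 + i := ⟨j - 30, by omega⟩
    exact chkBlocks_get (D := cert) 15 30 chk_facts30 i (by omega)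
  rcases Nat.lt_or_ge j 60 with h | h
  · obtain ⟨i, rfl⟩ : ∃ i, j = 45 + i := ⟨j - 45, by omega⟩
    exact chkBlocks_get (D := cert) 15 45 chk_facts45 i (by omega)
  rcases Nat.lt_or_ge j 75 with h | h
  · obtain ⟨i, rfl⟩ : ∃ i, j = 60 + i := ⟨j - 60, by omega⟩
    exact chkBlocks_get (D := cert) 15 60 chk_facts60 i (by omega)
  rcases Nat.lt_or_ge j 90 with h | h
  · obtain ⟨i, rfl⟩ : ∃ i, j = 75 + i := ⟨j - 75, by omega⟩
    exact chkBlocks_get (D := cert) 15 75 chk_facts75 i (by omega)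
  rcases Nat.lt_or_ge j 105 with h | h
  · obtain ⟨i, rfl⟩ : ∃ i, j = 90 + i := ⟨j - 90, by omega⟩
    exact chkBlocks_get (D := cert) 15 90 chk_facts90 i (by omega)
  rcases Nat.lt_or_ge j 120 with h | h
  · obtain ⟨i, rfl⟩ : ∃ i, j = 105 + i := ⟨j - 105, by omega⟩
    exact chkBlocks_get (D := cert) 15 105 chk_facts105 i (by omega)
  rcases Nat.lt_or_ge j 135 with h | h
  · obtain ⟨i, rfl⟩ : ∃ i, j = 120 + i := ⟨j - 120, by omega⟩
    exact chkBlocks_get (D := cert) 15 120 chk_facts120 i (by omega)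
  rcases Nat.lt_or_ge j 150 with h | h
  · obtain ⟨i, rfl⟩ : ∃ i, j = 135 + i := ⟨j - 135, by omega⟩
    exact chkBlocks_get (D := cert) 15 135 chk_facts135 i (by omega)
  rcases Nat.lt_or_ge j 165 with h | h
  · obtain ⟨i, rfl⟩ : ∃ i, j = 150 + i := ⟨j - 150, by omega⟩
    exact chkBlocks_get (D := cert) 15 150 chk_facts150 i (by omega)
  rcases Nat.lt_or_ge j 172 with h | h
  · obtain ⟨i, rfl⟩ : ∃ i, j = 165 + i := ⟨j - 165, by omega⟩
    exact chkBlocks_get (D := cert) 7 165 chk_facts165 i (by omega)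
  omega

theorem covered : Covered cert table live fin where
  hg15 := by decide +kernel
  hn := by decide +kernel
  facts := ⟨172, by decide +kernel, facts_ok⟩
  rows := fun i hi => chkRows_get 1463 0 chk_rows i (Nat.zero_le i) (by
    have : i < 1463 := hi
    omega)
  root := by decide +kernel

end CfsgLib.KnownA.OneSevenFive.I
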